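import Groth.Agent.Lib.Lead.QC.GlobGenRel
import Groth.Agent.Lib.Lead.QC.PullInv
import Groth.Agent.Lib.Lead.QC.AmpleIso
import Groth.Agent.Lib.Lead.QC.RestrictOpen
import Groth.Agent.Lib.Lead.QC.EpiLocal
import Groth.Agent.Lib.Lead.QC.SepAmple

/-! # Relative generation (`f^* f_* L ⟶ L` epi): base change, local criterion, local generators. -/

universe u
open CategoryTheory Limits AlgebraicGeometry TopologicalSpace Opposite

namespace Groth.Agent.H3.CounitLim
open Groth.Agent.LD.QC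

/-- `F`, pulled back along `r`, surjects onto `G` pulled back along `r`. -/
def Gen' {W T : Scheme.{u}} (r : W ⟶ T) (F G : T.Modules) : Prop :=
  ∃ p : (Scheme.Modules.pullback r).obj F ⟶ (Scheme.Modules.pullback r).obj G, Epi p

section Gen
variable {W' W T : Scheme.{u}}

lemma Gen'.congr {r r' : W ⟶ T} {F G : T.Modules} (h : Gen' r F G) (e : r = r') :
    Gen' r' F G := by
  subst e
  exact h

lemma gen'_comp_iff (t : W' ⟶ W) (r : W ⟶ T) (F G : T.Modules) :
    Gen' (t ≫ r) F G ↔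
      Gen' t ((Scheme.Modules.pullback r).obj F) ((Scheme.Modules.pullback r).obj G) := by
  constructor
  · rintro ⟨p, hp⟩
    haveI := hp
    exact ⟨(Scheme.Modules.pullbackComp t r).hom.app F ≫ p ≫
      (Scheme.Modules.pullbackComp t r).inv.app G, inferInstance⟩
  · rintro ⟨p, hp⟩
    haveI := hp
    exact ⟨(Scheme.Modules.pullbackComp t r).inv.app F ≫ p ≫
      (Scheme.Modules.pullbackComp t r).hom.app G, inferInstance⟩

lemma Gen'.comp {r : W ⟶ T} {F G : T.Modules} (h : Gen' r F G) (t : W' ⟶ W) :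
    Gen' (t ≫ r) F G := by
  rw [gen'_comp_iff]
  obtain ⟨p, hp⟩ := h
  haveI := hp
  haveI : (Scheme.Modules.pullback t).PreservesEpimorphisms :=
    Functor.preservesEpimorphisms_of_adjunction (Scheme.Modules.pullbackPushforwardAdjunction t)
  exact ⟨(Scheme.Modules.pullback t).map p, inferInstance⟩

lemma Gen'.of_iso {r : W ⟶ T} {F F' G G' : T.Modules} (h : Gen' r F G) (eF : F ≅ F')
    (eG : G ≅ G') : Gen' r F' G' := by
  obtain ⟨p, hp⟩ := h
  haveI := hp
  exact ⟨(Scheme.Modules.pullback r).map eF.inv ≫ p ≫ (Scheme.Modules.pullback r).map eG.hom,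
    inferInstance⟩

/-- generation by `n` sections, pulled back along `r`, in terms of the free module on `W`. -/
lemma gen'_freeMod_iff (r : W ⟶ T) (n : ℕ) (G : T.Modules) :
    Gen' r (freeMod T n) G ↔
      ∃ p : freeMod W n ⟶ (Scheme.Modules.pullback r).obj G, Epi p := by
  constructor
  · rintro ⟨p, hp⟩
    haveI := hp
    exact ⟨(pullbackFreeModIso r n).inv ≫ p, inferInstance⟩
  · rintro ⟨p, hp⟩
    haveI := hp
    exact ⟨(pullbackFreeModIso r n).hom ≫ p, inferInstance⟩

end Gen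

section BC
variable {X Y X' Y' : Scheme.{u}}

/-- an epimorphism `f^* A ⟶ B` forces the counit `f^* f_* B ⟶ B` to be an epimorphism. -/
lemma epi_counit_of_epi_pullback (f : X ⟶ Y) {A : Y.Modules} {B : X.Modules}
    (θ : (Scheme.Modules.pullback f).obj A ⟶ B) [Epi θ] :
    Epi ((Scheme.Modules.pullbackPushforwardAdjunction f).counit.app B) := by
  have h : θ = (Scheme.Modules.pullback f).map
      ((Scheme.Modules.pullbackPushforwardAdjunction f).homEquiv A B θ) ≫
      (Scheme.Modules.pullbackPushforwardAdjunction f).counit.app B := by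
    have h0 := (Scheme.Modules.pullbackPushforwardAdjunction f).homEquiv_counit A B
      ((Scheme.Modules.pullbackPushforwardAdjunction f).homEquiv A B θ)
    rw [Equiv.symm_apply_apply] at h0
    exact h0
  haveI : Epi ((Scheme.Modules.pullback f).map
      ((Scheme.Modules.pullbackPushforwardAdjunction f).homEquiv A B θ) ≫
      (Scheme.Modules.pullbackPushforwardAdjunction f).counit.app B) := h ▸ inferInstance
  exact epi_of_epi ((Scheme.Modules.pullback f).map
      ((Scheme.Modules.pullbackPushforwardAdjunction f).homEquiv A B θ)) _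

/-- **relative generation is stable under any commutative square.** -/
theorem epi_counit_of_comm_sq (f : X ⟶ Y) (f' : X' ⟶ Y') (g' : X' ⟶ X) (g : Y' ⟶ Y)
    (sq : g' ≫ f = f' ≫ g) (N : X.Modules)
    (hN : Epi ((Scheme.Modules.pullbackPushforwardAdjunction f).counit.app N))
    {N' : X'.Modules} (e : (Scheme.Modules.pullback g').obj N ≅ N') :
    Epi ((Scheme.Modules.pullbackPushforwardAdjunction f').counit.app N') := by
  haveI := hN
  haveI : (Scheme.Modules.pullback g').PreservesEpimorphisms :=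
    Functor.preservesEpimorphisms_of_adjunction (Scheme.Modules.pullbackPushforwardAdjunction g')
  haveI h1 : Epi ((Scheme.Modules.pullback g').map
      ((Scheme.Modules.pullbackPushforwardAdjunction f).counit.app N)) := inferInstance
  let θ₁ : (Scheme.Modules.pullback g').obj ((Scheme.Modules.pullback f).obj
      ((Scheme.Modules.pushforward f).obj N)) ⟶ N' :=
    (Scheme.Modules.pullback g').map
      ((Scheme.Modules.pullbackPushforwardAdjunction f).counit.app N) ≫ e.hom
  haveI : Epi θ₁ := epi_comp _ _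
  let θ₂ : (Scheme.Modules.pullback f').obj ((Scheme.Modules.pullback g).obj
      ((Scheme.Modules.pushforward f).obj N)) ⟶ N' :=
    (Scheme.Modules.pullbackComp f' g).hom.app ((Scheme.Modules.pushforward f).obj N) ≫
      (Scheme.Modules.pullbackCongr sq).inv.app ((Scheme.Modules.pushforward f).obj N) ≫
      (Scheme.Modules.pullbackComp g' f).inv.app ((Scheme.Modules.pushforward f).obj N) ≫ θ₁
  haveI : Epi θ₂ := epi_comp _ _
  exact epi_counit_of_epi_pullback f' θ₂

end BC

section Local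
variable {X Y X₀ : Scheme.{u}}

/-- local criterion: if locally over `Y` the module is generated by finitely many sections over
preimages, then the counit is an epimorphism. -/
theorem epi_counit_of_local_gen (f : X ⟶ Y) (G : X.Modules)
    (h : ∀ x : X, ∃ V : Y.Opens, x ∈ f ⁻¹ᵁ V ∧ ∃ n : ℕ, Gen' (f ⁻¹ᵁ V).ι (freeMod X n) G) :
    Epi ((Scheme.Modules.pullbackPushforwardAdjunction f).counit.app G) := by
  apply epi_counit_of_local_epi_free
  intro x
  obtain ⟨V, hx, n, hn⟩ := h x
  obtain ⟨p, hp⟩ := (gen'_freeMod_iff _ n G).mp hn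
  haveI := hp
  obtain ⟨q, hq⟩ : ∃ q : freeMod (f ⁻¹ᵁ V).toScheme n ⟶ G.restrict (f ⁻¹ᵁ V).ι, Epi q :=
    ⟨p ≫ ((Scheme.Modules.restrictFunctorIsoPullback (f ⁻¹ᵁ V).ι).app G).inv, epi_comp _ _⟩
  haveI := hq
  haveI e1 : Epi (freeModIso (f ⁻¹ᵁ V).toScheme n).inv := by
    haveI : IsIso (freeModIso (f ⁻¹ᵁ V).toScheme n).inv := Iso.isIso_inv _
    exact IsIso.epi_of_iso _
  obtain ⟨q', hq'⟩ : ∃ q' : (SheafOfModules.free (ULift.{u} (Fin n)) :
      (f ⁻¹ᵁ V).toScheme.Modules) ⟶ G.restrict (f ⁻¹ᵁ V).ι, Epi q' :=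
    ⟨(freeModIso (f ⁻¹ᵁ V).toScheme n).inv ≫ q,
      @epi_comp _ _ _ _ _ (freeModIso (f ⁻¹ᵁ V).toScheme n).inv e1 q hq⟩
  exact ⟨V, hx, _, q', hq'⟩

/-- local criterion for a module pulled back from `X₀`. -/
theorem epi_counit_of_local_gen' (f : X ⟶ Y) (r : X ⟶ X₀) (L₀ : X₀.Modules)
    (h : ∀ x : X, ∃ V : Y.Opens, x ∈ f ⁻¹ᵁ V ∧
      ∃ n : ℕ, Gen' ((f ⁻¹ᵁ V).ι ≫ r) (freeMod X₀ n) L₀) :
    Epi ((Scheme.Modules.pullbackPushforwardAdjunction f).counit.app
      ((Scheme.Modules.pullback r).obj L₀)) := by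
  apply epi_counit_of_local_gen
  intro x
  obtain ⟨V, hx, n, hn⟩ := h x
  refine ⟨V, hx, n, ?_⟩
  exact ((gen'_comp_iff _ r _ _).mp hn).of_iso (pullbackFreeModIso r n) (Iso.refl _)

/-- converse over an affine open of the target, for invertible modules and qcqs `f`. -/
theorem exists_epi_restrict_of_counit_epi (f : X ⟶ Y) [QuasiCompact f] [QuasiSeparated f]
    (M : X.Modules) (hM : PicF.IsInvertible M)
    (hε : Epi ((Scheme.Modules.pullbackPushforwardAdjunction f).counit.app M))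
    (V : Y.Opens) (hV : IsAffineOpen V) :
    ∃ (n : ℕ) (p : freeMod (f ⁻¹ᵁ V).toScheme n ⟶ M.restrict (f ⁻¹ᵁ V).ι), Epi p := by
  classical
  haveI : CompactSpace (f ⁻¹ᵁ V : Scheme.{u}) :=
    isCompact_iff_compactSpace.mp (QuasiCompact.isCompact_preimage (f := f) _ V.2 hV.isCompact)
  choose s hs using exists_mem_genLocus_restrict_of_counit_epi f M hM hε V hV
  obtain ⟨t, ht⟩ := isCompact_univ.elim_finite_subcover
    (fun z => ((CohB1.genLocus _ (s z) : (f ⁻¹ᵁ V).toScheme.Opens) : Set (f ⁻¹ᵁ V).toScheme))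
    (fun z => (CohB1.genLocus _ (s z)).2) (fun z _ => Set.mem_iUnion.mpr ⟨z, hs z⟩)
  refine ⟨t.card, homOfSections _ (fun i => SecTwist.val (s (t.equivFin.symm i).1) ⊤), ?_⟩
  apply epi_homOfSections_of_isBasisOver
  intro x
  have hx := ht (Set.mem_univ x)
  simp only [Set.mem_iUnion] at hx
  obtain ⟨z, hz, hxz⟩ := hx
  refine ⟨t.equivFin ⟨z, hz⟩, CohB1.genLocus _ (s z), hxz, ?_⟩
  have h1 := isBasisOver_val_of_le (s z) (le_refl _)
  rw [← val_res (s z) (le_top : CohB1.genLocus _ (s z) ≤ ⊤)] at h1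
  have h2 : (t.equivFin.symm (t.equivFin ⟨z, hz⟩)).1 = z := by rw [Equiv.symm_apply_apply]
  show IsBasisOver _ _ ((M.restrict (f ⁻¹ᵁ V).ι).presheaf.map (homOfLE le_top).op
    (SecTwist.val (s (t.equivFin.symm (t.equivFin ⟨z, hz⟩)).1) ⊤))
  rw [h2]
  exact h1

/-- converse, for a module pulled back from `X₀`. -/
theorem exists_gen'_of_counit_epi (f : X ⟶ Y) [QuasiCompact f] [QuasiSeparated f] (r : X ⟶ X₀)
    (L₀ : X₀.Modules) (hL₀ : PicF.IsInvertible L₀)
    (hε : Epi ((Scheme.Modules.pullbackPushforwardAdjunction f).counit.app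
      ((Scheme.Modules.pullback r).obj L₀)))
    (V : Y.Opens) (hV : IsAffineOpen V) :
    ∃ n : ℕ, Gen' ((f ⁻¹ᵁ V).ι ≫ r) (freeMod X₀ n) L₀ := by
  obtain ⟨n, p, hp⟩ := exists_epi_restrict_of_counit_epi f _ (isInvertible_pullback r hL₀) hε V hV
  haveI := hp
  refine ⟨n, (gen'_comp_iff _ r _ _).mpr ?_⟩
  have h1 : Gen' (f ⁻¹ᵁ V).ι (freeMod X n) ((Scheme.Modules.pullback r).obj L₀) :=
    (gen'_freeMod_iff _ n _).mpr
      ⟨p ≫ ((Scheme.Modules.restrictFunctorIsoPullback (f ⁻¹ᵁ V).ι).app _).hom, inferInstance⟩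
  exact h1.of_iso (pullbackFreeModIso r n).symm (Iso.refl _)

end Local

end Groth.Agent.H3.CounitLim
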