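import Groth.Agent.Lib.Helper3.CounitLim.A
import Groth.Agent.Lib.Helper5.Lim.ModuleHomSurj4
import Groth.Agent.Lib.Helper5.Lim.ModuleEpi
import Groth.Agent.Lib.Helper5.Lim.BaseChangeSystem

/-! # Descent of `Gen'` to a finite stage of a cofiltered limit with affine transition maps. -/

universe u
open CategoryTheory Limits AlgebraicGeometry TopologicalSpace Opposite

namespace Groth.Agent.H3.CounitLim
open Groth.Agent.LD.QC Groth.Agent.H5.Lim

section Core
variable {I : Type u} [SmallCategory I] [IsCofiltered I] (D : I ⥤ Scheme.{u}) (c : Cone D)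
  (hc : IsLimit c) [∀ (i j : I) (f : i ⟶ j), IsAffineHom (D.map f)] (i₀ : I)

include hc in
/-- generation of a finite type module by a finitely presented one descends to a stage. -/
theorem exists_stage_gen'_core [CompactSpace (D.obj i₀)] [QuasiSeparatedSpace (D.obj i₀)]
    (F₀ G₀ : (D.obj i₀).Modules) (hF₀ : F₀.IsFinitePresentation) [G₀.IsQuasicoherent]
    (hG₀ : G₀.IsFiniteType) (h : Gen' (c.π.app i₀) F₀ G₀) :
    ∃ (j : I) (φ : j ⟶ i₀), Gen' (D.map φ) F₀ G₀ := by
  obtain ⟨p, hp⟩ := h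
  haveI := hp
  haveI : F₀.IsQuasicoherent := inferInstance
  obtain ⟨k, ψ, hψ⟩ := exists_stage_hom_pullback_eq D c hc i₀ F₀ G₀ hF₀ p
  have h1 : (Scheme.Modules.pullback (c.π.app k.left)).map ψ =
      ((pullbackStageIso D c i₀ k.hom).app F₀).hom ≫ p ≫
        ((pullbackStageIso D c i₀ k.hom).app G₀).inv := by
    rw [← hψ]
    simp
  have h2 : Epi ((Scheme.Modules.pullback (c.π.app k.left)).map ψ) := by
    rw [h1]
    infer_instance
  haveI : CompactSpace (D.obj k.left) := compactSpace_of_isAffineHom (D.map k.hom) inferInstance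
  haveI : ((Scheme.Modules.pullback (D.map k.hom)).obj F₀).IsQuasicoherent :=
    qc_pullback (D.map k.hom) F₀
  haveI : ((Scheme.Modules.pullback (D.map k.hom)).obj G₀).IsQuasicoherent :=
    qc_pullback (D.map k.hom) G₀
  obtain ⟨k', hk'⟩ := exists_stage_epi_pullback_map D c hc k.left
    (isFiniteType_pullback (D.map k.hom) G₀ hG₀) ψ h2
  refine ⟨k'.left, k'.hom ≫ k.hom, ?_⟩
  have h3 : Gen' (D.map k'.hom) ((Scheme.Modules.pullback (D.map k.hom)).obj F₀)
      ((Scheme.Modules.pullback (D.map k.hom)).obj G₀) := ⟨_, hk'⟩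
  exact ((gen'_comp_iff _ _ _ _).mpr h3).congr (D.map_comp _ _).symm

end Core

section BC
variable {I : Type u} [SmallCategory I] [IsCofiltered I] (D : I ⥤ Scheme.{u}) (c : Cone D)
  (hc : IsLimit c) [∀ (i j : I) (f : i ⟶ j), IsAffineHom (D.map f)] (i₀ : I)
  {T : Scheme.{u}} (a : T ⟶ D.obj i₀)

/-- the projection from the base stage of the base-changed system to `T`. -/
noncomputable def baseProj : (bcDiagram D a).obj (Over.mk (𝟙 i₀)) ⟶ T :=
  pullback.fst a (D.map (𝟙 i₀))

lemma bcCone_π_baseProj :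
    (bcCone D c a).π.app (Over.mk (𝟙 i₀)) ≫ baseProj D i₀ a = pullback.fst a (c.π.app i₀) :=
  bcProj_fst D c a (Over.mk (𝟙 i₀))

lemma bcDiagram_map_baseProj {k : Over i₀} (φ' : k ⟶ Over.mk (𝟙 i₀)) :
    (bcDiagram D a).map φ' ≫ baseProj D i₀ a = pullback.fst a (D.map k.hom) :=
  bcMap_fst D a φ'

include hc in
/-- the same for the base change of the system along `a : T ⟶ D.obj i₀`. -/
theorem exists_stage_gen' [CompactSpace T] [QuasiSeparatedSpace T]
    (F G : T.Modules) (hF : F.IsFinitePresentation) [G.IsQuasicoherent] (hG : G.IsFiniteType)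
    (h : Gen' (pullback.fst a (c.π.app i₀)) F G) :
    ∃ (j : I) (φ : j ⟶ i₀), Gen' (pullback.fst a (D.map φ)) F G := by
  haveI : ∀ (j k : Over i₀) (φ : j ⟶ k), IsAffineHom ((bcDiagram D a).map φ) :=
    fun j k φ => isAffineHom_bcMap D a φ inferInstance
  haveI : CompactSpace ((bcDiagram D a).obj (Over.mk (𝟙 i₀))) :=
    compactSpace_bcDiagram_obj D a (Over.mk (𝟙 i₀)) inferInstance
  haveI : QuasiSeparatedSpace ((bcDiagram D a).obj (Over.mk (𝟙 i₀))) :=
    quasiSeparatedSpace_bcDiagram_obj D a (Over.mk (𝟙 i₀)) inferInstance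
  haveI : ((Scheme.Modules.pullback (baseProj D i₀ a)).obj G).IsQuasicoherent :=
    qc_pullback _ G
  have h1 : Gen' ((bcCone D c a).π.app (Over.mk (𝟙 i₀)))
      ((Scheme.Modules.pullback (baseProj D i₀ a)).obj F)
      ((Scheme.Modules.pullback (baseProj D i₀ a)).obj G) :=
    (gen'_comp_iff _ _ _ _).mp (h.congr (bcCone_π_baseProj D c i₀ a).symm)
  obtain ⟨k, φ', hk⟩ := exists_stage_gen'_core (bcDiagram D a) (bcCone D c a)
    (isLimitBcCone D c a hc) (Over.mk (𝟙 i₀))
    ((Scheme.Modules.pullback (baseProj D i₀ a)).obj F)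
    ((Scheme.Modules.pullback (baseProj D i₀ a)).obj G)
    (isFinitePresentation_pullback (baseProj D i₀ a) F hF)
    (isFiniteType_pullback (baseProj D i₀ a) G hG) h1
  refine ⟨k.left, k.hom, ?_⟩
  exact ((gen'_comp_iff _ _ _ _).mpr hk).congr (bcDiagram_map_baseProj D i₀ a φ')

end BC

end Groth.Agent.H3.CounitLim
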