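import Groth.Agent.Lib.Helper3.CounitLim.B

/-! # Relative generation of an invertible module descends from a limit to a stage. -/

universe u
open CategoryTheory Limits AlgebraicGeometry TopologicalSpace Opposite

namespace Groth.Agent.H3.CounitLim
open Groth.Agent.LD.QC Groth.Agent.H5.Lim

section Canon
variable {I : Type u} [SmallCategory I] (D : I ⥤ Scheme.{u}) {i₀ : I} {X₀ Y₀ : Scheme.{u}}
  (f₀ : X₀ ⟶ Y₀) (g₀ : Y₀ ⟶ D.obj i₀)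

/-- canonical model of `Y` at the stage `χ`. -/
noncomputable abbrev Yc {k : I} (χ : k ⟶ i₀) : Scheme.{u} := pullback g₀ (D.map χ)
noncomputable abbrev pYc {k : I} (χ : k ⟶ i₀) : Yc D g₀ χ ⟶ Y₀ := pullback.fst g₀ (D.map χ)
noncomputable abbrev gc {k : I} (χ : k ⟶ i₀) : Yc D g₀ χ ⟶ D.obj k := pullback.snd g₀ (D.map χ)
/-- canonical model of `X` at the stage `χ`. -/
noncomputable abbrev Xc {k : I} (χ : k ⟶ i₀) : Scheme.{u} := pullback f₀ (pYc D g₀ χ)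
noncomputable abbrev pXc {k : I} (χ : k ⟶ i₀) : Xc D f₀ g₀ χ ⟶ X₀ := pullback.fst f₀ (pYc D g₀ χ)
noncomputable abbrev fc {k : I} (χ : k ⟶ i₀) : Xc D f₀ g₀ χ ⟶ Yc D g₀ χ := pullback.snd f₀ (pYc D g₀ χ)

/-- generation by `n` sections over the preimage of `V₀ ⊆ Y₀` at the stage `χ`. -/
def PGen (L₀ : X₀.Modules) (V₀ : Y₀.Opens) (n : ℕ) {k : I} (χ : k ⟶ i₀) : Prop :=
  Gen' (((fc D f₀ g₀ χ) ⁻¹ᵁ ((pYc D g₀ χ) ⁻¹ᵁ V₀)).ι ≫ pXc D f₀ g₀ χ) (freeMod X₀ n) L₀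

lemma pGen_of_gen' (L₀ : X₀.Modules) (V₀ : Y₀.Opens) (n : ℕ) {j : I} (φ : j ⟶ i₀)
    (h : Gen' (pullback.fst ((f₀ ⁻¹ᵁ V₀).ι ≫ f₀ ≫ g₀) (D.map φ) ≫ (f₀ ⁻¹ᵁ V₀).ι)
      (freeMod X₀ n) L₀)
    {k : I} (ψ : k ⟶ j) : PGen D f₀ g₀ L₀ V₀ n (ψ ≫ φ) := by
  obtain ⟨χ, hχ⟩ : ∃ χ : k ⟶ i₀, χ = ψ ≫ φ := ⟨_, rfl⟩
  rw [← hχ]
  unfold PGen
  have hW : (fc D f₀ g₀ χ) ⁻¹ᵁ ((pYc D g₀ χ) ⁻¹ᵁ V₀) ≤ (pXc D f₀ g₀ χ) ⁻¹ᵁ (f₀ ⁻¹ᵁ V₀) := by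
    apply le_of_eq
    rw [← Scheme.Hom.comp_preimage, ← Scheme.Hom.comp_preimage, pullback.condition]
  have c1 : pXc D f₀ g₀ χ ≫ f₀ = fc D f₀ g₀ χ ≫ pYc D g₀ χ := pullback.condition
  have c2 : pYc D g₀ χ ≫ g₀ = gc D g₀ χ ≫ D.map χ := pullback.condition
  have ht₁ : (pXc D f₀ g₀ χ).resLE (f₀ ⁻¹ᵁ V₀) _ hW ≫ (f₀ ⁻¹ᵁ V₀).ι =
      ((fc D f₀ g₀ χ) ⁻¹ᵁ ((pYc D g₀ χ) ⁻¹ᵁ V₀)).ι ≫ pXc D f₀ g₀ χ :=
    Scheme.Hom.resLE_comp_ι _ hW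
  have cond : (pXc D f₀ g₀ χ).resLE (f₀ ⁻¹ᵁ V₀) _ hW ≫ ((f₀ ⁻¹ᵁ V₀).ι ≫ f₀ ≫ g₀) =
      (((fc D f₀ g₀ χ) ⁻¹ᵁ ((pYc D g₀ χ) ⁻¹ᵁ V₀)).ι ≫ fc D f₀ g₀ χ ≫ gc D g₀ χ ≫ D.map ψ) ≫
        D.map φ := by
    rw [← Category.assoc ((pXc D f₀ g₀ χ).resLE (f₀ ⁻¹ᵁ V₀) _ hW), ht₁]
    simp only [Category.assoc]
    rw [reassoc_of% c1, c2, hχ, D.map_comp]
  have ht := pullback.lift_fst (f := (f₀ ⁻¹ᵁ V₀).ι ≫ f₀ ≫ g₀) (g := D.map φ) _ _ cond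
  refine (h.comp (pullback.lift _ _ cond)).congr ?_
  exact (Category.assoc _ _ _).symm.trans ((congrArg (· ≫ (f₀ ⁻¹ᵁ V₀).ι) ht).trans ht₁)

end Canon

section Limit
variable {I : Type u} [SmallCategory I] [IsCofiltered I] (D : I ⥤ Scheme.{u}) (c : Cone D)
  (hc : IsLimit c) [∀ (i j : I) (u : i ⟶ j), IsAffineHom (D.map u)] (i₀ : I)
  [CompactSpace (D.obj i₀)] [QuasiSeparatedSpace (D.obj i₀)]
  {X₀ Y₀ : Scheme.{u}} (f₀ : X₀ ⟶ Y₀) (g₀ : Y₀ ⟶ D.obj i₀)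

include hc in
/-- over an affine open of `Y₀`, generation on the limit descends to a stage. -/
theorem exists_stage_pGen [QuasiCompact f₀] [QuasiSeparated f₀] [QuasiSeparatedSpace X₀]
    (L₀ : X₀.Modules) (hL₀ : PicF.IsInvertible L₀)
    {X Y : Scheme.{u}} (f : X ⟶ Y) (g : Y ⟶ c.pt) (qY : Y ⟶ Y₀) (qX : X ⟶ X₀)
    (hY : IsPullback qY g g₀ (c.π.app i₀)) (hX : IsPullback qX f f₀ qY)
    (hgen : Epi ((Scheme.Modules.pullbackPushforwardAdjunction f).counit.app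
      ((Scheme.Modules.pullback qX).obj L₀)))
    (V₀ : Y₀.Opens) (hV₀ : IsAffineOpen V₀) :
    ∃ (j : I) (φ : j ⟶ i₀) (n : ℕ), ∀ (k : I) (ψ : k ⟶ j), PGen D f₀ g₀ L₀ V₀ n (ψ ≫ φ) := by
  classical
  haveI : IsAffineHom (c.π.app i₀) := isAffineHom_π_app D c hc i₀
  haveI : IsAffineHom qY :=
    MorphismProperty.of_isPullback (P := @IsAffineHom) hY.flip inferInstance
  haveI : QuasiCompact f :=
    MorphismProperty.of_isPullback (P := @QuasiCompact) hX inferInstance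
  haveI : QuasiSeparated f :=
    MorphismProperty.of_isPullback (P := @QuasiSeparated) hX inferInstance
  have hV : IsAffineOpen (qY ⁻¹ᵁ V₀) := hV₀.preimage qY
  obtain ⟨n, hn⟩ := exists_gen'_of_counit_epi f qX L₀ hL₀ hgen (qY ⁻¹ᵁ V₀) hV
  haveI : L₀.IsQuasicoherent := qc_of_isInvertible L₀ hL₀
  haveI : CompactSpace (f₀ ⁻¹ᵁ V₀ : Scheme.{u}) :=
    isCompact_iff_compactSpace.mp (QuasiCompact.isCompact_preimage (f := f₀) _ V₀.2 hV₀.isCompact)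
  haveI : QuasiSeparatedSpace (f₀ ⁻¹ᵁ V₀ : Scheme.{u}) :=
    QuasiSeparatedSpace.of_isOpenEmbedding (Scheme.Hom.isOpenEmbedding (f₀ ⁻¹ᵁ V₀).ι)
  -- the comparison morphism to `X`
  have hXY : IsPullback qX (f ≫ g) (f₀ ≫ g₀) (c.π.app i₀) := hX.paste_vert hY
  have hcond : (pullback.fst ((f₀ ⁻¹ᵁ V₀).ι ≫ f₀ ≫ g₀) (c.π.app i₀) ≫ (f₀ ⁻¹ᵁ V₀).ι) ≫
      (f₀ ≫ g₀) = pullback.snd ((f₀ ⁻¹ᵁ V₀).ι ≫ f₀ ≫ g₀) (c.π.app i₀) ≫ c.π.app i₀ := by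
    rw [Category.assoc]
    exact pullback.condition
  have hω := hXY.lift_fst _ _ hcond
  have hrange : Set.range (hXY.lift _ _ hcond) ⊆ Set.range (f ⁻¹ᵁ (qY ⁻¹ᵁ V₀)).ι := by
    rw [Scheme.Opens.range_ι]
    rintro _ ⟨z, rfl⟩
    have h1 : (f ⁻¹ᵁ (qY ⁻¹ᵁ V₀)) = qX ⁻¹ᵁ (f₀ ⁻¹ᵁ V₀) := by
      rw [← Scheme.Hom.comp_preimage, ← Scheme.Hom.comp_preimage, hX.w]
    show hXY.lift _ _ hcond z ∈ f ⁻¹ᵁ (qY ⁻¹ᵁ V₀)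
    rw [h1]
    show (hXY.lift _ _ hcond ≫ qX) z ∈ f₀ ⁻¹ᵁ V₀
    rw [hω]
    exact (pullback.fst ((f₀ ⁻¹ᵁ V₀).ι ≫ f₀ ≫ g₀) (c.π.app i₀) z).2
  have ht := IsOpenImmersion.lift_fac (f ⁻¹ᵁ (qY ⁻¹ᵁ V₀)).ι (hXY.lift _ _ hcond) hrange
  have h1 : Gen' (pullback.fst ((f₀ ⁻¹ᵁ V₀).ι ≫ f₀ ≫ g₀) (c.π.app i₀) ≫ (f₀ ⁻¹ᵁ V₀).ι)
      (freeMod X₀ n) L₀ := by
    refine (hn.comp (IsOpenImmersion.lift (f ⁻¹ᵁ (qY ⁻¹ᵁ V₀)).ι (hXY.lift _ _ hcond)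
      hrange)).congr ?_
    exact (Category.assoc _ _ _).symm.trans ((congrArg (· ≫ qX) ht).trans hω)
  have h2 := (gen'_comp_iff _ _ _ _).mp h1
  haveI : ((Scheme.Modules.pullback (f₀ ⁻¹ᵁ V₀).ι).obj L₀).IsQuasicoherent := qc_pullback _ L₀
  obtain ⟨j, φ, hj⟩ := exists_stage_gen' D c hc i₀ ((f₀ ⁻¹ᵁ V₀).ι ≫ f₀ ≫ g₀) _ _
    (isFinitePresentation_pullback (f₀ ⁻¹ᵁ V₀).ι _
      (isFinitePresentation_of_isFinLocFree _ (isFinLocFree_freeMod X₀ n)))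
    (isFiniteType_pullback (f₀ ⁻¹ᵁ V₀).ι L₀ (isFiniteType_of_isInvertible L₀ hL₀)) h2
  exact ⟨j, φ, n, fun k ψ =>
    pGen_of_gen' D f₀ g₀ L₀ V₀ n φ ((gen'_comp_iff _ _ _ _).mpr hj) ψ⟩

end Limit

section Finite
variable {I : Type u} [SmallCategory I] [IsCofiltered I] (D : I ⥤ Scheme.{u}) {i₀ : I}
  {X₀ Y₀ : Scheme.{u}} (f₀ : X₀ ⟶ Y₀) (g₀ : Y₀ ⟶ D.obj i₀) (L₀ : X₀.Modules)

theorem exists_stage_pGen_finset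
    (hP : ∀ V₀ : Y₀.affineOpens, ∃ (j : I) (φ : j ⟶ i₀) (n : ℕ), ∀ (k : I) (ψ : k ⟶ j),
      PGen D f₀ g₀ L₀ V₀.1 n (ψ ≫ φ)) (s : Finset Y₀.affineOpens) :
    ∃ (j : I) (φ : j ⟶ i₀), ∀ V₀ ∈ s, ∃ n : ℕ, ∀ (k : I) (ψ : k ⟶ j),
      PGen D f₀ g₀ L₀ V₀.1 n (ψ ≫ φ) := by
  classical
  induction s using Finset.induction_on with
  | empty => exact ⟨i₀, 𝟙 i₀, fun V hV => absurd hV (Finset.notMem_empty V)⟩
  | insert V s hVs ih =>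
    obtain ⟨j₁, φ₁, h₁⟩ := ih
    obtain ⟨j₂, φ₂, n₂, h₂⟩ := hP V
    obtain ⟨m, l, r, -⟩ : ∃ (m : I) (_ : m ⟶ j₁) (_ : m ⟶ j₂), True :=
      ⟨IsCofiltered.min j₁ j₂, IsCofiltered.minToLeft j₁ j₂, IsCofiltered.minToRight j₁ j₂,
        trivial⟩
    obtain ⟨m', e, he⟩ : ∃ (m' : I) (e : m' ⟶ m), e ≫ (l ≫ φ₁) = e ≫ (r ≫ φ₂) :=
      ⟨_, IsCofiltered.eqHom _ _, IsCofiltered.eq_condition _ _⟩
    refine ⟨m', e ≫ l ≫ φ₁, ?_⟩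
    intro V' hV'
    rcases Finset.mem_insert.mp hV' with hVV | hV'
    · subst hVV
      refine ⟨n₂, fun k ψ => ?_⟩
      have h3 := h₂ k (ψ ≫ e ≫ r)
      have e3 : (ψ ≫ e ≫ r) ≫ φ₂ = ψ ≫ e ≫ l ≫ φ₁ := by
        simp only [Category.assoc]
        rw [he]
      rw [e3] at h3
      exact h3
    · obtain ⟨n, hn⟩ := h₁ V' hV'
      refine ⟨n, fun k ψ => ?_⟩
      have h3 := hn k (ψ ≫ e ≫ l)
      have e3 : (ψ ≫ e ≫ l) ≫ φ₁ = ψ ≫ e ≫ l ≫ φ₁ := by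
        simp only [Category.assoc]
      rw [e3] at h3
      exact h3

end Finite

section Main
variable {I : Type u} [SmallCategory I] [IsCofiltered I] (D : I ⥤ Scheme.{u}) (c : Cone D)
  (hc : IsLimit c) [∀ (i j : I) (u : i ⟶ j), IsAffineHom (D.map u)] (i₀ : I)
  [CompactSpace (D.obj i₀)] [QuasiSeparatedSpace (D.obj i₀)]
  {X₀ Y₀ : Scheme.{u}} (f₀ : X₀ ⟶ Y₀) (g₀ : Y₀ ⟶ D.obj i₀)

include hc in
/-- **relative generation of an invertible module descends to a stage** (and then holds for every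
further base change). -/
theorem exists_stage_counit_epi [QuasiCompact g₀] [QuasiSeparated g₀]
    [QuasiCompact (f₀ ≫ g₀)] [QuasiSeparated (f₀ ≫ g₀)]
    (L₀ : X₀.Modules) (hL₀ : PicF.IsInvertible L₀)
    {X Y : Scheme.{u}} (f : X ⟶ Y) (g : Y ⟶ c.pt) (qY : Y ⟶ Y₀) (qX : X ⟶ X₀)
    (hY : IsPullback qY g g₀ (c.π.app i₀)) (hX : IsPullback qX f f₀ qY)
    (hgen : Epi ((Scheme.Modules.pullbackPushforwardAdjunction f).counit.app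
      ((Scheme.Modules.pullback qX).obj L₀))) :
    ∃ (j : I) (φ : j ⟶ i₀), ∀ (k : I) (ψ : k ⟶ j) (Xk Yk : Scheme.{u}) (fk : Xk ⟶ Yk)
      (gk : Yk ⟶ D.obj k) (pY : Yk ⟶ Y₀) (pX : Xk ⟶ X₀),
      pY ≫ g₀ = gk ≫ D.map (ψ ≫ φ) → pX ≫ f₀ = fk ≫ pY →
        Epi ((Scheme.Modules.pullbackPushforwardAdjunction fk).counit.app
          ((Scheme.Modules.pullback pX).obj L₀)) := by
  classical
  haveI : CompactSpace Y₀ := QuasiCompact.compactSpace_of_compactSpace g₀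
  haveI : QuasiCompact f₀ := QuasiCompact.of_comp f₀ g₀
  haveI : QuasiSeparated f₀ := QuasiSeparated.of_comp f₀ g₀
  haveI : QuasiSeparatedSpace X₀ := quasiSeparatedSpace_of_quasiSeparated (f₀ ≫ g₀)
  obtain ⟨s, hs⟩ := exists_finset_affineOpens_cover Y₀
  obtain ⟨j, φ, hj⟩ := exists_stage_pGen_finset D f₀ g₀ L₀
    (fun V₀ => exists_stage_pGen D c hc i₀ f₀ g₀ L₀ hL₀ f g qY qX hY hX hgen V₀.1 V₀.2) s
  have hcan : Epi ((Scheme.Modules.pullbackPushforwardAdjunction (fc D f₀ g₀ φ)).counit.app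
      ((Scheme.Modules.pullback (pXc D f₀ g₀ φ)).obj L₀)) := by
    apply epi_counit_of_local_gen'
    intro x
    have hy : pYc D g₀ φ (fc D f₀ g₀ φ x) ∈ (⊤ : Y₀.Opens) := trivial
    obtain ⟨V, hV⟩ := Opens.mem_iSup.1 (hs hy)
    obtain ⟨hVs, hxV⟩ := Opens.mem_iSup.1 hV
    obtain ⟨n, hn⟩ := hj V hVs
    have h1 := hn j (𝟙 j)
    rw [Category.id_comp] at h1
    exact ⟨(pYc D g₀ φ) ⁻¹ᵁ V.1, hxV, n, h1⟩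
  refine ⟨j, φ, ?_⟩
  intro k ψ Xk Yk fk gk pY pX hYk hXk
  have hu : pY ≫ g₀ = (gk ≫ D.map ψ) ≫ D.map φ := by rw [hYk, D.map_comp, Category.assoc]
  have hv : pX ≫ f₀ = (fk ≫ pullback.lift pY (gk ≫ D.map ψ) hu) ≫ pYc D g₀ φ := by
    rw [Category.assoc, pullback.lift_fst, hXk]
  exact epi_counit_of_comm_sq (fc D f₀ g₀ φ) fk (pullback.lift pX _ hv)
    (pullback.lift pY (gk ≫ D.map ψ) hu) (pullback.lift_snd _ _ _) _ hcan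
    ((Scheme.Modules.pullbackComp (pullback.lift pX _ hv) (pXc D f₀ g₀ φ)).app L₀ ≪≫
      (Scheme.Modules.pullbackCongr (pullback.lift_fst _ _ _)).app L₀)

end Main

end Groth.Agent.H3.CounitLim
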